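import Mathlib.RingTheory.Ideal.GoingDown
import Mathlib.RingTheory.Ideal.KrullsHeightTheorem
import Mathlib.RingTheory.LocalRing.Quotient
import Mathlib.RingTheory.Flat.Stability

/-!
# Dimensions along a flat local map with zero dimensional closed fibre
-/

set_option autoImplicit false
set_option linter.style.haveILetI false
set_option backward.isDefEq.respectTransparency false

universe u

open IsLocalRing

namespace Groth.Agent.DeltaFlat

theorem comap_mk_maximalIdeal {A : Type u} [CommRing A] [IsLocalRing A] (I : Ideal A) [IsLocalRing (A ⧸ I)] :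
    (maximalIdeal (A ⧸ I)).comap (Ideal.Quotient.mk I) = maximalIdeal A :=
  eq_maximalIdeal (Ideal.comap_isMaximal_of_surjective _ Ideal.Quotient.mk_surjective)

theorem isLocalRing_quotient {A : Type u} [CommRing A] [IsLocalRing A] (I : Ideal A) [I.IsPrime] :
    IsLocalRing (A ⧸ I) :=
  .of_surjective' (Ideal.Quotient.mk I) Ideal.Quotient.mk_surjective

variable {A A' : Type u} [CommRing A] [CommRing A'] [IsLocalRing A] [IsLocalRing A'] [Algebra A A']

theorem dim_quotient_le [IsNoetherianRing A] [IsNoetherianRing A']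
    (hfib : ∀ q : Ideal A', ∀ _ : q.IsPrime, q.comap (algebraMap A A') = maximalIdeal A → q = maximalIdeal A')
    (hm : (maximalIdeal A').comap (algebraMap A A') = maximalIdeal A)
    (P : Ideal A') [P.IsPrime] :
    ringKrullDim (A' ⧸ P) ≤ ringKrullDim (A ⧸ P.comap (algebraMap A A')) := by
  set p := P.comap (algebraMap A A') with hp
  haveI := isLocalRing_quotient p
  haveI := isLocalRing_quotient P
  let θ : A ⧸ p →+* A' ⧸ P := Ideal.quotientMap P (algebraMap A A') le_rfl
  letI : Algebra (A ⧸ p) (A' ⧸ P) := θ.toAlgebra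
  have hloc : (maximalIdeal (A' ⧸ P)).comap θ = maximalIdeal (A ⧸ p) := by
    apply Ideal.comap_injective_of_surjective _ (Ideal.Quotient.mk_surjective (I := p))
    rw [Ideal.comap_comap, Ideal.quotientMap_comp_mk, ← Ideal.comap_comap,
      comap_mk_maximalIdeal P, hm,
      comap_mk_maximalIdeal p]
  haveI : (maximalIdeal (A' ⧸ P)).LiesOver (maximalIdeal (A ⧸ p)) := ⟨hloc.symm⟩
  have h := Ideal.height_le_height_add_of_liesOver (S := A' ⧸ P) (maximalIdeal (A ⧸ p)) (maximalIdeal (A' ⧸ P))
  have h0 : ((maximalIdeal (A' ⧸ P)).map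
      (Ideal.Quotient.mk ((maximalIdeal (A ⧸ p)).map (algebraMap (A ⧸ p) (A' ⧸ P))))).height = 0 := by
    set I := (maximalIdeal (A ⧸ p)).map (algebraMap (A ⧸ p) (A' ⧸ P)) with hI
    have hIle : I ≤ maximalIdeal (A' ⧸ P) := Ideal.map_le_iff_le_comap.2 hloc.ge
    haveI : ((maximalIdeal (A' ⧸ P)).map (Ideal.Quotient.mk I)).IsPrime :=
      Ideal.map_isPrime_of_surjective Ideal.Quotient.mk_surjective (by rwa [Ideal.mk_ker])
    rw [Ideal.height_eq_zero_iff]
    refine ⟨⟨this, bot_le⟩, fun Q hQ _ => ?_⟩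
    haveI := hQ.1
    set Q' := (Q.comap (Ideal.Quotient.mk I)).comap (Ideal.Quotient.mk P) with hQ'
    have hle : maximalIdeal A ≤ Q'.comap (algebraMap A A') := by
      intro x hx
      have h1 : Ideal.Quotient.mk p x ∈ maximalIdeal (A ⧸ p) := by
        rw [← comap_mk_maximalIdeal p] at hx
        exact hx
      show Ideal.Quotient.mk I (Ideal.Quotient.mk P (algebraMap A A' x)) ∈ Q
      rw [Ideal.Quotient.eq_zero_iff_mem.2 (show Ideal.Quotient.mk P (algebraMap A A' x) ∈ I from
        Ideal.mem_map_of_mem (algebraMap (A ⧸ p) (A' ⧸ P)) h1)]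
      exact Q.zero_mem
    have h2 := hfib Q' inferInstance ((maximalIdeal.isMaximal A).eq_of_le (Ideal.IsPrime.ne_top inferInstance) hle).symm
    intro z hz
    obtain ⟨w, hw, rfl⟩ := (Ideal.mem_map_iff_of_surjective _ Ideal.Quotient.mk_surjective).1 hz
    obtain ⟨v, rfl⟩ := Ideal.Quotient.mk_surjective w
    have : v ∈ Q' := by
      rw [h2, ← comap_mk_maximalIdeal P]
      exact hw
    exact this
  rw [h0, add_zero] at h
  rw [← maximalIdeal_height_eq_ringKrullDim, ← maximalIdeal_height_eq_ringKrullDim]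
  exact WithBot.coe_le_coe.2 h

theorem exists_prime_dim_ge [Module.Flat A A'] (hm : (maximalIdeal A').comap (algebraMap A A') = maximalIdeal A)
    (p : Ideal A) [p.IsPrime] [IsNoetherianRing A] :
    ∃ P : Ideal A', P.IsPrime ∧ P.comap (algebraMap A A') = p ∧ ringKrullDim (A ⧸ p) ≤ ringKrullDim (A' ⧸ P) := by
  haveI := isLocalRing_quotient p
  obtain ⟨l, hl, hlen⟩ := (maximalIdeal (A ⧸ p)).exists_ltSeries_length_eq_height
  let c := PrimeSpectrum.comap (Ideal.Quotient.mk p)
  let l' : LTSeries (PrimeSpectrum A) := l.map c (RingHom.strictMono_comap_of_surjective Ideal.Quotient.mk_surjective)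
  haveI : (maximalIdeal A').LiesOver l'.last.asIdeal := ⟨by
    show l'.last.asIdeal = (maximalIdeal A').comap (algebraMap A A')
    rw [hm, LTSeries.last_map, hl]
    exact comap_mk_maximalIdeal p⟩
  obtain ⟨L, hLlen, -, hLmap⟩ := Ideal.exists_ltSeries_of_hasGoingDown l' (maximalIdeal A')
  have hhead : L.head.asIdeal.comap (algebraMap A A') = l'.head.asIdeal := by
    have h0 : l'.toList[0] = (PrimeSpectrum.comap (algebraMap A A')) L.toList[0] := by
      rw [List.getElem_map_rev (PrimeSpectrum.comap (algebraMap A A')), List.getElem_of_eq hLmap.symm _]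
    rw [← L.toList_getElem_zero_eq_head, ← l'.toList_getElem_zero_eq_head, h0]
    rfl
  -- the first term lies over a prime containing `p`; refine it to `p`
  have hp : p ≤ l'.head.asIdeal := by
    rw [LTSeries.head_map]
    intro x hx
    show Ideal.Quotient.mk p x ∈ l.head.asIdeal
    rw [Ideal.Quotient.eq_zero_iff_mem.2 hx]
    exact Ideal.zero_mem _
  haveI : L.head.asIdeal.LiesOver l'.head.asIdeal := ⟨hhead.symm⟩
  obtain ⟨P, hPle, hP, hPover⟩ := Ideal.exists_ideal_le_liesOver_of_le (p := p) L.head.asIdeal hp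
  refine ⟨P, hP, hPover.over.symm, ?_⟩
  rw [← maximalIdeal_height_eq_ringKrullDim, ← hlen]
  haveI := hP
  let Lq : LTSeries (PrimeSpectrum (A' ⧸ P)) := LTSeries.mk L.length
    (fun i => ⟨(L i).asIdeal.map (Ideal.Quotient.mk P), Ideal.map_isPrime_of_surjective Ideal.Quotient.mk_surjective
      (by rw [Ideal.mk_ker]; exact hPle.trans (L.head_le i))⟩)
    (fun i j hij => by
      have h := L.strictMono hij
      refine lt_of_le_of_ne (Ideal.map_mono h.le) fun e => h.ne ?_
      have e' := congrArg (fun Q : PrimeSpectrum (A' ⧸ P) => Q.asIdeal.comap (Ideal.Quotient.mk P)) e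
      simp only [Ideal.comap_map_of_surjective _ Ideal.Quotient.mk_surjective, ← RingHom.ker_eq_comap_bot,
        Ideal.mk_ker, sup_eq_left.2 (hPle.trans (L.head_le i)), sup_eq_left.2 (hPle.trans (L.head_le j))] at e'
      exact PrimeSpectrum.ext e')
  have h1 := Order.LTSeries.length_le_krullDim Lq
  refine le_trans (le_of_eq ?_) h1
  show _ = ((L.length : ℕ) : WithBot ℕ∞)
  rw [hLlen]
  rfl

end Groth.Agent.DeltaFlat
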