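import Mathlib.FieldTheory.AlgebraicClosure
import Mathlib.FieldTheory.IsAlgClosed.AlgebraicClosure
import Mathlib.FieldTheory.IntermediateField.Adjoin.Algebra
import Mathlib.RingTheory.AlgebraicIndependent.TranscendenceBasis
import Mathlib.RingTheory.AlgebraicIndependent.Adjoin

/-!
# Transcendence degree under composita
-/

set_option autoImplicit false
set_option linter.style.haveILetI false
set_option backward.isDefEq.respectTransparency false

universe u

open Cardinal

noncomputable section

namespace Groth.Agent.DeltaFlat

open scoped IntermediateField.algebraAdjoinAdjoin in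
/-- a compositum has at most the transcendence degree of the factor -/
theorem trdeg_le_of_generated {k K k' E : Type u} [Field k] [Field K] [Field k'] [Field E]
    (a : k →+* K) (b : k →+* k') (i : K →+* E) (j : k' →+* E) (hc : i.comp a = j.comp b)
    (hgen : ∀ F : Subfield E, (∀ x, i x ∈ F) → (∀ y, j y ∈ F) → F = ⊤) :
    @Algebra.trdeg k' E _ _ j.toAlgebra ≤ @Algebra.trdeg k K _ _ a.toAlgebra := by
  letI := j.toAlgebra
  letI := a.toAlgebra
  obtain ⟨s, hs⟩ := exists_isTranscendenceBasis k K
  have hKalg := hs.isAlgebraic_field
  let L₀ := IntermediateField.adjoin k (Set.range ((↑) : s → K))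
  let L := IntermediateField.adjoin k' (i '' s)
  have hmem : ∀ z ∈ L₀, i z ∈ L := by
    intro z hz
    induction hz using IntermediateField.adjoin_induction k with
    | mem z hz =>
      obtain ⟨w, rfl⟩ := hz
      exact IntermediateField.subset_adjoin k' _ ⟨w, w.2, rfl⟩
    | algebraMap c =>
      rw [show i (algebraMap k K c) = algebraMap k' E (b c) from RingHom.congr_fun hc c]
      exact L.algebraMap_mem _
    | add x y _ _ hx hy => rw [map_add]; exact L.add_mem hx hy
    | inv x _ hx => rw [map_inv₀]; exact L.inv_mem hx
    | mul x y _ _ hx hy => rw [map_mul]; exact L.mul_mem hx hy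
  let f : L₀ →+* L := (i.comp L₀.val.toRingHom).codRestrict L fun z => hmem z z.2
  have halgL : Algebra.IsAlgebraic L E := by
    have hF : (algebraicClosure L E).toSubfield = ⊤ := by
      refine hgen _ (fun x => ?_) fun y => ?_
      · show i x ∈ algebraicClosure L E
        rw [mem_algebraicClosure_iff]
        exact (hKalg.isAlgebraic x).ringHom_of_comp_eq f i f.injective (RingHom.ext fun z => rfl)
      · show algebraMap k' E y ∈ algebraicClosure L E
        rw [IsScalarTower.algebraMap_apply k' L E]
        exact (algebraicClosure L E).algebraMap_mem _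
    refine ⟨fun z => ?_⟩
    have hz : z ∈ (algebraicClosure L E).toSubfield := hF ▸ trivial
    exact (mem_algebraicClosure_iff).1 hz
  haveI : Algebra.IsAlgebraic (Algebra.adjoin k' (i '' s)) L :=
    IsLocalization.isAlgebraic L (nonZeroDivisors (Algebra.adjoin k' (i '' s)))
  haveI : IsScalarTower (Algebra.adjoin k' (i '' s)) L E := IsScalarTower.of_algebraMap_eq fun _ => rfl
  haveI : Algebra.IsAlgebraic (Algebra.adjoin k' (i '' s)) E :=
    Algebra.IsAlgebraic.trans (Algebra.adjoin k' (i '' s)) L E
  calc Algebra.trdeg k' E ≤ #(i '' s) := Algebra.IsAlgebraic.trdeg_le_cardinalMk k' (i '' s)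
    _ ≤ #s := Cardinal.mk_image_le
    _ = Algebra.trdeg k K := hs.cardinalMk_eq_trdeg

/-- a compositum of maximal transcendence degree exists -/
theorem exists_field {k K k' : Type u} [Field k] [Field K] [Field k'] (a : k →+* K) (b : k →+* k') :
    ∃ (E : Type u) (_ : Field E) (i : K →+* E) (j : k' →+* E) (s : Set K),
      i.comp a = j.comp b ∧ #s = @Algebra.trdeg k K _ _ a.toAlgebra ∧
      @AlgebraicIndependent ↥s k' E (fun z : s => i z) _ _ j.toAlgebra := by
  letI := a.toAlgebra
  obtain ⟨s, hs⟩ := exists_isTranscendenceBasis k K
  let P := MvPolynomial s k'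
  let E := AlgebraicClosure (FractionRing P)
  have hPE : Function.Injective (algebraMap P E) := by
    rw [IsScalarTower.algebraMap_eq P (FractionRing P) E]
    exact (algebraMap (FractionRing P) E).injective.comp (IsFractionRing.injective P (FractionRing P))
  let j : k' →+* E := (algebraMap P E).comp MvPolynomial.C
  letI : Algebra k' E := j.toAlgebra
  let φ : MvPolynomial s k →+* E := (algebraMap P E).comp (MvPolynomial.map b)
  have hφ : Function.Injective φ := hPE.comp (MvPolynomial.map_injective b b.injective)
  let e := hs.1.aevalEquiv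
  letI : Algebra (Algebra.adjoin k (Set.range ((↑) : s → K))) E := (φ.comp e.symm.toRingHom).toAlgebra
  haveI : Module.IsTorsionFree (Algebra.adjoin k (Set.range ((↑) : s → K))) E :=
    (Module.isTorsionFree_iff_algebraMap_injective).2 (hφ.comp e.symm.injective)
  haveI : Algebra.IsAlgebraic (Algebra.adjoin k (Set.range ((↑) : s → K))) K := hs.isAlgebraic
  let i : K →ₐ[Algebra.adjoin k (Set.range ((↑) : s → K))] E := IsAlgClosed.lift
  have hi : ∀ p : MvPolynomial s k, i (algebraMap _ K (e p)) = φ p := fun p => by
    rw [i.commutes]
    show φ (e.symm (e p)) = φ p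
    rw [AlgEquiv.symm_apply_apply]
  refine ⟨E, inferInstance, i.toRingHom, j, s, RingHom.ext fun c => ?_, hs.cardinalMk_eq_trdeg, ?_⟩
  · have h1 := hi (MvPolynomial.C c)
    rw [show algebraMap _ K (e (MvPolynomial.C c)) = a c from by
      rw [AlgebraicIndependent.algebraMap_aevalEquiv]; exact MvPolynomial.aeval_C _ _] at h1
    refine h1.trans ?_
    exact congrArg (algebraMap P E) (MvPolynomial.map_C b c)
  · have hX : (fun z : s => i z) = fun z : s => algebraMap P E (MvPolynomial.X z) := by
      funext z
      have h1 := hi (MvPolynomial.X z)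
      rw [show algebraMap _ K (e (MvPolynomial.X z)) = (z : K) from by
        rw [AlgebraicIndependent.algebraMap_aevalEquiv]; exact MvPolynomial.aeval_X _ _] at h1
      refine h1.trans ?_
      exact congrArg (algebraMap P E) (MvPolynomial.map_X b z)
    show AlgebraicIndependent k' (fun z : s => i z)
    rw [hX]
    exact (MvPolynomial.algebraicIndependent_X s k').map' (f := { algebraMap P E with commutes' := fun _ => rfl }) hPE

end Groth.Agent.DeltaFlat
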