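import Groth.Agent.DeltaFlat.Fields
import Mathlib.AlgebraicGeometry.PullbackCarrier

/-!
# Residue fields of points of fibre products
-/

set_option autoImplicit false
set_option linter.style.haveILetI false
set_option backward.isDefEq.respectTransparency false

universe u

open CategoryTheory Limits AlgebraicGeometry AlgebraicGeometry.Scheme AlgebraicGeometry.Scheme.Pullback Cardinal

noncomputable section

namespace Groth.Agent.DeltaFlat

variable {X Y S : Scheme.{u}} {f : X ⟶ S} {g : Y ⟶ S}

/-- the residue field of a point of a fibre product is generated by those of its images -/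
theorem eq_top_of_images (t : ↑(pullback f g)) (F : Subfield ((pullback f g).residueField t))
    (h₁ : ∀ x, (pullback.fst f g).residueFieldMap t x ∈ F) (h₂ : ∀ y, (pullback.snd f g).residueFieldMap t y ∈ F) :
    F = ⊤ := by
  let ι : CommRingCat.of F ⟶ (pullback f g).residueField t := CommRingCat.ofHom F.subtype
  haveI : Mono ι := ConcreteCategory.mono_of_injective ι Subtype.val_injective
  let i₁ : X.residueField (pullback.fst f g t) ⟶ CommRingCat.of F :=
    CommRingCat.ofHom (((pullback.fst f g).residueFieldMap t).hom.codRestrict F h₁)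
  let i₂ : Y.residueField (pullback.snd f g t) ⟶ CommRingCat.of F :=
    CommRingCat.ofHom (((pullback.snd f g).residueFieldMap t).hom.codRestrict F h₂)
  have e₁ : i₁ ≫ ι = (pullback.fst f g).residueFieldMap t := rfl
  have e₂ : i₂ ≫ ι = (pullback.snd f g).residueFieldMap t := rfl
  let d : (Triplet.ofPoint t).tensor ⟶ CommRingCat.of F := pushout.desc i₁ i₂ (by
    rw [← cancel_mono ι, Category.assoc, Category.assoc]
    exact residueFieldCongr_inv_residueFieldMap_ofPoint t)
  have hd : d ≫ ι = ofPointTensor t := by
    refine pushout.hom_ext ?_ ?_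
    · exact (pushout.inl_desc_assoc _ _ _ ι).trans (pushout.inl_desc _ _ _).symm
    · exact (pushout.inr_desc_assoc _ _ _ ι).trans (pushout.inr_desc _ _ _).symm
  let m : Spec (CommRingCat.of F) ⟶ pullback f g := Spec.map d ≫ (Triplet.ofPoint t).SpecTensorTo
  have hm : Spec.map ι ≫ m = (pullback f g).fromSpecResidueField t := by
    rw [← Category.assoc, ← Spec.map_comp, hd, ofPointTensor_SpecTensorTo]
  obtain ⟨⟨t', ψ⟩, hψ⟩ := (SpecToEquivOfField F (pullback f g)).symm.surjective m
  rw [← hψ] at hm
  change Spec.map ι ≫ Spec.map ψ ≫ _ = _ at hm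
  rw [← Spec.map_comp_assoc] at hm
  have h := (SpecToEquivOfField ((pullback f g).residueField t) (pullback f g)).symm.injective
    (a₁ := ⟨t', ψ ≫ ι⟩) (a₂ := ⟨t, 𝟙 _⟩) (by
      refine hm.trans ?_
      show _ = Spec.map (𝟙 _) ≫ _
      rw [Spec.map_id, Category.id_comp])
  obtain ⟨e, he⟩ := SpecToEquivOfField_eq_iff.1 h
  change ψ ≫ ι = ((pullback f g).residueFieldCongr e).hom ≫ 𝟙 _ at he
  rw [Category.comp_id] at he
  ext z
  simp only [Subfield.mem_top, iff_true]
  have hz : ι (ψ (((pullback f g).residueFieldCongr e).inv z)) = z := by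
    have := congrArg (fun h => h (((pullback f g).residueFieldCongr e).inv z)) he
    exact this.trans (Iso.inv_hom_id_apply _ z)
  rw [← hz]
  exact Subtype.property _

/-- transcendence degrees do not increase under base change -/
theorem trdeg_le (t : ↑(pullback f g)) :
    @Algebra.trdeg (Y.residueField (pullback.snd f g t)) ((pullback f g).residueField t) _ _
        ((pullback.snd f g).residueFieldMap t).hom.toAlgebra ≤
      @Algebra.trdeg (S.residueField (f (pullback.fst f g t))) (X.residueField (pullback.fst f g t)) _ _
        (f.residueFieldMap (pullback.fst f g t)).hom.toAlgebra := by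
  refine trdeg_le_of_generated (f.residueFieldMap _).hom
    ((S.residueFieldCongr (Triplet.ofPoint t).hy).inv ≫ g.residueFieldMap (Triplet.ofPoint t).y).hom
    ((pullback.fst f g).residueFieldMap t).hom ((pullback.snd f g).residueFieldMap t).hom ?_
    (eq_top_of_images t)
  have h := congrArg CommRingCat.Hom.hom (residueFieldCongr_inv_residueFieldMap_ofPoint (f := f) (g := g) t)
  simp only [residueFieldCongr_inv, residueFieldCongr_refl] at h ⊢
  exact h

/-- over a given pair of points there is a point of maximal transcendence degree -/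
theorem exists_trdeg_eq (x : X) (y : Y) (h : g y = f x) :
    ∃ t : ↑(pullback f g), pullback.fst f g t = x ∧ pullback.snd f g t = y ∧
      @Algebra.trdeg (S.residueField (f (pullback.fst f g t))) (X.residueField (pullback.fst f g t)) _ _
          (f.residueFieldMap (pullback.fst f g t)).hom.toAlgebra ≤
        @Algebra.trdeg (Y.residueField (pullback.snd f g t)) ((pullback f g).residueField t) _ _
          ((pullback.snd f g).residueFieldMap t).hom.toAlgebra := by
  let T : Triplet f g := ⟨x, y, f x, rfl, h⟩
  obtain ⟨E, hE, i, j, s, hc, hs, hind⟩ := exists_field (f.residueFieldMap x).hom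
    ((S.residueFieldCongr h).inv ≫ g.residueFieldMap y).hom
  let ib : X.residueField x ⟶ CommRingCat.of E := CommRingCat.ofHom i
  let jb : Y.residueField y ⟶ CommRingCat.of E := CommRingCat.ofHom j
  let d : T.tensor ⟶ CommRingCat.of E := pushout.desc ib jb (by
    apply CommRingCat.hom_ext
    simp only [T, residueFieldCongr_inv, residueFieldCongr_refl] at hc ⊢
    exact hc)
  let m : Spec (CommRingCat.of E) ⟶ pullback f g := Spec.map d ≫ T.SpecTensorTo
  obtain ⟨⟨t, ψ⟩, hψ⟩ := (SpecToEquivOfField E (pullback f g)).symm.surjective m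
  change Spec.map ψ ≫ _ = m at hψ
  have hx : (⟨pullback.fst f g t, (pullback.fst f g).residueFieldMap t ≫ ψ⟩ : Σ x : X, X.residueField x ⟶ .of E) =
      ⟨x, ib⟩ := by
    apply (SpecToEquivOfField E X).symm.injective
    show Spec.map ((pullback.fst f g).residueFieldMap t ≫ ψ) ≫ _ = Spec.map ib ≫ _
    rw [Spec.map_comp, Category.assoc, Hom.SpecMap_residueFieldMap_fromSpecResidueField, ← Category.assoc, hψ,
      Category.assoc, Triplet.specTensorTo_fst, ← Category.assoc, ← Spec.map_comp]
    exact congrArg (fun q => Spec.map q ≫ X.fromSpecResidueField x) (pushout.inl_desc _ _ _)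
  have hy : (⟨pullback.snd f g t, (pullback.snd f g).residueFieldMap t ≫ ψ⟩ : Σ y : Y, Y.residueField y ⟶ .of E) =
      ⟨y, jb⟩ := by
    apply (SpecToEquivOfField E Y).symm.injective
    show Spec.map ((pullback.snd f g).residueFieldMap t ≫ ψ) ≫ _ = Spec.map jb ≫ _
    rw [Spec.map_comp, Category.assoc, Hom.SpecMap_residueFieldMap_fromSpecResidueField, ← Category.assoc, hψ,
      Category.assoc, Triplet.specTensorTo_snd, ← Category.assoc, ← Spec.map_comp]
    exact congrArg (fun q => Spec.map q ≫ Y.fromSpecResidueField y) (pushout.inr_desc _ _ _)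
  have h1 : pullback.fst f g t = x := congrArg Sigma.fst hx
  have h2 : pullback.snd f g t = y := congrArg Sigma.fst hy
  refine ⟨t, h1, h2, ?_⟩
  subst h1
  subst h2
  have hi : (pullback.fst f g).residueFieldMap t ≫ ψ = ib := eq_of_heq (Sigma.mk.inj_iff.1 hx).2
  have hj : (pullback.snd f g).residueFieldMap t ≫ ψ = jb := eq_of_heq (Sigma.mk.inj_iff.1 hy).2
  letI := ((pullback.snd f g).residueFieldMap t).hom.toAlgebra
  letI : Algebra (Y.residueField (pullback.snd f g t)) E := j.toAlgebra
  let ψa : (pullback f g).residueField t →ₐ[Y.residueField (pullback.snd f g t)] E :=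
    { ψ.hom with commutes' := fun c => congrArg (fun q => q c) hj }
  have hind' : AlgebraicIndependent (Y.residueField (pullback.snd f g t))
      (fun z : s => (pullback.fst f g).residueFieldMap t z) := by
    refine AlgebraicIndependent.of_comp ψa ?_
    have hz : (ψa ∘ fun z : s => (pullback.fst f g).residueFieldMap t z) = fun z : s => i z :=
      funext fun z => congrArg (fun q => q (z : X.residueField (pullback.fst f g t))) hi
    rw [hz]
    exact hind
  rw [← hs]
  exact hind'.cardinalMk_le_trdeg

end Groth.Agent.DeltaFlat
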